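import Groth.Agent.QuotEtale.Main
import Groth.Agent.QA.Props

/-!
# Diagonals of quotient stacks of affine groups
-/

set_option autoImplicit false
set_option backward.isDefEq.respectTransparency false
set_option backward.isDefEq.respectTransparency.types false
set_option linter.style.haveILetI false
universe u

noncomputable section

namespace Groth.Agent.QuotDiag

open CategoryTheory CategoryTheory.Limits MonoidalCategory AlgebraicGeometry Opposite Groth.Agent.FibCatRep
  Groth.Agent.FibCat2Misc Groth.Agent.AlgSpLib Groth.Agent.StkBasic Groth.Agent.AlgStLib Groth.Agent.QuotEtale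
open _root_.AlgSp _root_.AlgSt

variable {S : Scheme.{u}} {G X : Over S} [GrpObj G] {aX : AlgGrp.Action G X}
variable (P : MorphismProperty Scheme.{u}) [P.IsStableUnderBaseChange] [P.IsStableUnderComposition]
  [IsZariskiLocalAtTarget P] [P.DescendsAlong (@Surjective ⊓ @Flat ⊓ @QuasiCompact)]

/-- the structure functor of a scheme with affine diagonal has affine diagonal -/
theorem repWith_diag_toSelf (hX : P (pullback.diagonal X.hom)) :
    RepByAlgSpWith (RepWith (S := S) P)
      (FibCat.diag (FibCat.toSelf (Stk.ofPsh ((pyon S).obj X)))) := by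
  let P' : MorphismProperty Scheme.{u} := MorphismProperty.diagonal P
  let t : X ⟶ AlgStLib.base S := Over.homMk X.hom (Category.comp_id _)
  have h₁ : RepByAlgSpWith (RepWith (S := S) P') (Stk.ofPshMap ((pyon S).map t)) :=
    (repWith_ofPshMap_iff _ _).2 (repBySpWith_repWith (IsAlgSpace.yon_obj X) (IsAlgSpace.yon_obj _)
      ((yon S).map t) ((repWith_yon_map_iff _ _).2 hX))
  have h₂ : RepByAlgSpWith (RepWith (S := S) P') (FibCat.toSelf (Stk.ofPsh ((pyon S).obj X))) :=
    (repWith_iff_of_equiv _ (FibCat.toSelf (Stk.ofPsh ((pyon S).obj X))) (Stk.ofPshMap ((pyon S).map t))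
      (BasedFunctor.id _) (FibCat.toSelf (Stk.ofPsh ((pyon S).obj (AlgStLib.base S)))) isEquivOver_id
      isEquivOver_toSelf_base (eqToIso (comp_toSelf _))).2 h₁
  refine repWith_diag_of_repWith h₂ fun Y U π hY hπ => ?_
  refine repBySpWith_repWith hY
    (isAlgSpace_of_isPullback_space (IsAlgSpace.yon_obj U) hY hY (IsPullback.of_hasPullback π π)) _ ?_
  obtain ⟨V, v, p, sq⟩ := hπ.rep (𝟙 ((yon S).obj U))
  have hv : P' v.left := hπ.property _ _ _ sq
  haveI : IsIso p := sq.isIso_fst_of_isIso
  have hp : π = inv p ≫ (yon S).map v := by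
    rw [IsIso.eq_inv_comp, sq.w, Category.comp_id]
  rw [hp]
  refine (MorphismProperty.cancel_left_of_respectsIso
    (MorphismProperty.diagonal (RepWith (S := S) P)) (inv p) ((yon S).map v)).2 ?_
  exact (repWith_diagonal_yon_map_iff _ v).2 hv

/-- diagonals of quotient stacks -/
theorem repWith_diag_quot [IsAffineHom G.hom] [Flat G.hom] [LocallyOfFinitePresentation G.hom]
    (d : RepByAlgSp1 (FibCat.diag (FibCat.toSelf (AlgSt.QuotSt Scheme.fppfPrecoverage G aX))))
    (hP : ∀ ⦃A B : Scheme.{u}⦄ (r : A ⟶ B), IsAffineHom r → P r)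
    (hQ : ∀ ⦃A B : Scheme.{u}⦄ (r : A ⟶ B), P r → MoreMor.IsIndQuasiAffineHom r) (hX : P (pullback.diagonal X.hom)) :
    RepByAlgSpWith (RepWith (S := S) P)
      (FibCat.diag (FibCat.toSelf (AlgSt.QuotSt Scheme.fppfPrecoverage G aX))) := by
  let x : Stk.ofPsh ((pyon S).obj X) ⥤ᵇ AlgSt.QuotSt Scheme.fppfPrecoverage G aX :=
    AlgSt.quotMap Scheme.fppfPrecoverage G aX
  have key : ∀ P : MorphismProperty (Sp S), RepByAlgSpWith P (Quot.qX (aX := aX)) → RepByAlgSpWith P x :=
    fun P h => (repWith_iff_of_equiv P x (Quot.qX (aX := aX)) (AlgSt.ofOverCat X) (BasedFunctor.id _)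
      (isEquivOver_ofOverCat X) isEquivOver_id (Iso.refl _)).2 h
  have hx := key _ (repWith_mono (repWith_affine_qX (G := G) (X := X) (aX := aX))
    (Q := RepWith (S := S) P) fun _ _ a _ ha => ⟨ha.rep, fun _ _ _ _ _ sq => hP _ (ha.property _ _ _ sq)⟩)
  have hw : Lifts x := lifts_of_fppf (key _ (Quot.repWith_qX_locP @Flat etST_flat ‹_›))
    (key _ (Quot.repWith_qX_locP @LocallyOfFinitePresentation etST_lfp ‹_›))
    (key _ Quot.repWith_qX_surjective)
  let t := FibCat.toSelf (AlgSt.QuotSt Scheme.fppfPrecoverage G aX)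
  let ε : BasedFunctor.comp (FibCat.fpFst x x) (BasedFunctor.comp x t) ≅
      BasedFunctor.comp (FibCat.fpSnd x x) (BasedFunctor.comp x t) := (post _ t).mapIso (FibCat.fpIso x x)
  let C := FibCat.fpLift (FibCat.fpFst x x) (FibCat.fpSnd x x) ε
  have hxt : RepByAlgSpWith (RepWith (S := S) P) (FibCat.diag (BasedFunctor.comp x t)) := by
    rw [comp_toSelf]
    exact repWith_diag_toSelf P hX
  have hg := isFibGrpd_ofSpace ((pyon S).obj X)
  have h𝒳 := (Quot.isStack G aX).1
  have hC : RepByAlgSpWith (RepWith (S := S) P) C :=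
    repWith_cancel_rep (isFibGrpd_fp hg hg h𝒳 x x) (isFibGrpd_fp hg hg isFibGrpd_selfOver _ _) hg C
      (FibCat.fpFst (BasedFunctor.comp x t) (BasedFunctor.comp x t))
      (repWith_congr _ (Iso.refl _) (repWith_fpFst _ x x hx)) (repWith_diag_fpFst _ _ hxt)
  refine repWith_of_lifts (bcStable_repWith P) (isLocalOnBase_fppf (isLocalOnBase_repWith P hQ)) d
    (lifts_cmpMap hw) ?_
  exact (repWith_iff_of_equiv _ (FibCat.fpFst (cmpMap x x t) (FibCat.diag t)) C
    (cmpDiag ε (fun _ => rfl)) (BasedFunctor.id _) (isEquivOver_cmpDiag ε (fun _ => rfl)) isEquivOver_id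
    (Iso.refl _)).2 hC

/-- the diagonal of the scheme from the diagonal of the quotient stack -/
theorem affine_diag_of_quot [IsAffineHom G.hom] [Flat G.hom] [LocallyOfFinitePresentation G.hom]
    (d : RepByAlgSpWith (RepWith (S := S) @IsAffineHom)
      (FibCat.diag (FibCat.toSelf (AlgSt.QuotSt Scheme.fppfPrecoverage G aX)))) :
    IsAffineHom (pullback.diagonal X.hom) := by
  let x : Stk.ofPsh ((pyon S).obj X) ⥤ᵇ AlgSt.QuotSt Scheme.fppfPrecoverage G aX :=
    AlgSt.quotMap Scheme.fppfPrecoverage G aX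
  have hx : RepByAlgSpWith (RepWith (S := S) @IsAffineHom) x :=
    (repWith_iff_of_equiv _ x (Quot.qX (aX := aX)) (AlgSt.ofOverCat X) (BasedFunctor.id _)
      (isEquivOver_ofOverCat X) isEquivOver_id (Iso.refl _)).2 (repWith_affine_qX (G := G) (X := X) (aX := aX))
  have hdx : RepByAlgSpWith (RepWith (S := S) @IsAffineHom) (FibCat.diag x) := by
    refine repWith_diag_of_repWith hx fun Y U π hY hπ => ?_
    refine repBySpWith_repWith hY
      (isAlgSpace_of_isPullback_space (IsAlgSpace.yon_obj U) hY hY (IsPullback.of_hasPullback π π)) _ ?_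
    obtain ⟨V, v, p, sq⟩ := hπ.rep (𝟙 ((yon S).obj U))
    haveI : IsAffineHom v.left := hπ.property _ _ _ sq
    haveI : IsIso p := sq.isIso_fst_of_isIso
    have hp : π = inv p ≫ (yon S).map v := by
      rw [IsIso.eq_inv_comp, sq.w, Category.comp_id]
    rw [hp]
    refine (MorphismProperty.cancel_left_of_respectsIso
      (MorphismProperty.diagonal (RepWith (S := S) @IsAffineHom)) (inv p) ((yon S).map v)).2 ?_
    exact (repWith_diagonal_yon_map_iff _ v).2 (inferInstanceAs (IsAffineHom (pullback.diagonal v.left)))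
  have h := repWith_diag_comp (isFibGrpd_ofSpace ((pyon S).obj X)) (Quot.isStack G aX).1
    ⟨bcStable_repWith @IsAffineHom, fun _ _ _ _ _ _ a b ha hb =>
      MorphismProperty.comp_mem (RepWith (S := S) @IsAffineHom) a b ha hb, isLocalOnBase_affine⟩ x _ hdx d
  rw [comp_toSelf] at h
  let t : X ⟶ AlgStLib.base S := Over.homMk X.hom (Category.comp_id _)
  have h₂ := (repWith_diag_iff_of_equiv (FibCat.toSelf (Stk.ofPsh ((pyon S).obj X))) (Stk.ofPshMap ((pyon S).map t))
    (BasedFunctor.id _) (FibCat.toSelf (Stk.ofPsh ((pyon S).obj (AlgStLib.base S)))) isEquivOver_id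
    isEquivOver_toSelf_base (eqToIso (comp_toSelf _))).1 h
  let δ := pullback.diagonal t
  have h₃ := repWith_of_repBySpWith ((yon S).map δ) ((repWith_diag_ofPshMap_iff
    ((IsPullback.of_hasPullback t t).map (pyon S)) (Δ := (pyon S).map δ)
    (by rw [← Functor.map_comp, pullback.diagonal_fst, CategoryTheory.Functor.map_id])
    (by rw [← Functor.map_comp, pullback.diagonal_snd, CategoryTheory.Functor.map_id])).1 h₂)
  have h₄ : IsAffineHom δ.left := (repWith_yon_map_iff _ _).1 h₃
  have sq := (IsPullback.of_hasPullback t t).map (Over.forget S)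
  have e : δ.left ≫ sq.isoPullback.hom = pullback.diagonal X.hom := by
    apply pullback.hom_ext
    · rw [Category.assoc, sq.isoPullback_hom_fst]
      exact (congrArg CommaMorphism.left (pullback.diagonal_fst t)).trans (pullback.diagonal_fst X.hom).symm
    · rw [Category.assoc, sq.isoPullback_hom_snd]
      exact (congrArg CommaMorphism.left (pullback.diagonal_snd t)).trans (pullback.diagonal_snd X.hom).symm
  rw [← e]
  infer_instance

end Groth.Agent.QuotDiag

end
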